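import Cfsg.Agent.Lib.Helper28.TCCheck
import Cfsg.Agent.Lib.Helper28.Fi23Ord.Sub

set_option autoImplicit false
set_option linter.unusedVariables false

namespace Cfsg.Agent.Lib.Helper28.Fi23Ord.C56

open Cfsg.Agent.Lib.Helper28.Fi23Sub.Q7 (Gen)
open Cfsg.Agent.Lib.Helper28.TC

noncomputable section

def hotA_c0 : ℕ := 0x0
def hotA : ℕ := hotA_c0
def coldA_c0 : ℕ := 0x0
def coldA : ℕ := coldA_c0
def treeT_c0 : ℕ := 0xdd76d935d4f4d0b3cdb1c9afc46fc1aebcadb8acb4ebb0e8ac28a826a4e5a0659c24986394a290618ca0899f849d819c7d1c799a759971596d96695664d661545d935913555151104c90494f450e40cd3d0c38cb344b30ca2c892888258721851c051984144410830cc2090105400000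
def treeT : ℕ := treeT_c0
def rowT_c0 : ℕ := 0xdf6d74cf2c70beeb6caeaa689e69648e28607de75c6da6585d65544d24503ce34c2ca2481c61440c2040
def rowT : ℕ := rowT_c0

end

end Cfsg.Agent.Lib.Helper28.Fi23Ord.C56
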