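import Cfsg.Agent.Lib.Helper28.TCCheck
import Cfsg.Agent.Lib.Helper28.Fi23Ord.Sub

set_option autoImplicit false
set_option linter.unusedVariables false

namespace Cfsg.Agent.Lib.Helper28.Fi23Ord.C56

open Cfsg.Agent.Lib.Helper28.Fi23Sub.Q7 (Gen)
open Cfsg.Agent.Lib.Helper28.TC

noncomputable section

def hotE0_c0 : ℕ := 0xc1f17cdeebb5bb5b3695fc6af957b3a55f49c2796ceee95d3239e3b54aac874b22ae03343687a48ec8dcd137a16bc0cf7d90f305d5d38b36d5ad29594f30985d229a25541a89058ec81b913aa46234b47184f27164d308048fca180c2a1c5e407850b88100c1210041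
def hotE0 : ℕ := hotE0_c0
def coldE0_c0 : ℕ := 0xd80c6f50313d00c3f3030bc40c5c000c2b80c1ee03170002eac030b0002ca8030f0002880009a940c3c0000000024800000880c2c00000800c2df0317740c2dc0317700c4da0317640c5d9031b580c5d6031b580c3d4031b4c0c5d3031300012900313400c2cf031b0000f8d030f300c4c00032280c1ca030f0000a88030b00008850317000058403170000003030b080c3c10313000c6c001c7
def coldE0 : ℕ := coldE0_c0
def tfT0_c0 : ℕ := 0xdf6d74cf0c72bafb2da26a6b92a9678e28607de75c6da6585d64944d53d044c34e28b2091461c40c2040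
def tfT0 : ℕ := tfT0_c0

end

end Cfsg.Agent.Lib.Helper28.Fi23Ord.C56
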