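import Cfsg.Agent.Lib.Helper28.TCCheck
import Cfsg.Agent.Lib.Helper28.Fi23Ord.Sub

set_option autoImplicit false
set_option linter.unusedVariables false

namespace Cfsg.Agent.Lib.Helper28.Fi23Ord.C56

open Cfsg.Agent.Lib.Helper28.Fi23Sub.Q7 (Gen)
open Cfsg.Agent.Lib.Helper28.TC

noncomputable section

def hotE1_c0 : ℕ := 0xc2717ddeedb5bf5b46767d2ad85431aae543be7b74d6a965924ae696c56687d10792294bea2834eed8df32b7e16c40d07d92f309d5db8b46d5cd29d64fb0995d4cca2d242287c4d14a9c0f34206f44b26150d2c1c472c8250e471890382446288860c08110c1410081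
def hotE1 : ℕ := hotE1_c0
def coldE1_c0 : ℕ := 0xd80cdf5032fd00caf2032700032af03330002fae033300000290327ac0cac000a6a0081e60207940cac0009690081c0008e00000000086000001f0333000001c0333700cbda0333640ccd90337580ccd60337580cac000564c0ccd3032f440cdc00046380c9cf0337380cbc0003a300cbcb032b0000b8a032b000000603271c0ccc0001a14081c4033300004800000080cac1032f000cdc001cb
def coldE1 : ℕ := coldE1_c0
def tfT1_c0 : ℕ := 0xdf6d74cb3bf0c6eb69aeab259e3a219a29207de75c6da6555d66114d250e3d02cc34a2461c81050c2040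
def tfT1 : ℕ := tfT1_c0

end

end Cfsg.Agent.Lib.Helper28.Fi23Ord.C56
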