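import Cfsg.Agent.Lib.Helper28.TCCheck
import Cfsg.Agent.Lib.Helper28.Fi23Ord.Sub

set_option autoImplicit false
set_option linter.unusedVariables false

namespace Cfsg.Agent.Lib.Helper28.Fi23Ord.C56

open Cfsg.Agent.Lib.Helper28.Fi23Sub.Q7 (Gen)
open Cfsg.Agent.Lib.Helper28.TC

noncomputable section

def hotE2_c0 : ℕ := 0xc2f17edeefb5b74b66b60ceb195471a45d42b68f8506f96d925ae3d545a98851089e011bee579c2ff99caf3ca46cc0d17dc9130dd5e38b6655ed2d5b50309b5524b269741227d4cee9205434a0633cb67154d26144624966114b19102b1c48307440e0a120c16100c1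
def hotE2 : ℕ := hotE2_c0
def coldE2_c0 : ℕ := 0xd80d4f5034bcc0d1c000ce000002d034fbc089ec034f0002d8000b200000000000a0082e6020b880d1e5022790082e3022700022a10227000208000000001d800000700d2d8034f00000190353500d3c00062500d1d40353400d3c00052440d4d0034b000108f0353380d2c00000300d2c903472c089c80347000098000220000000000014082c3034f10089c0000e0000001034b000d4c001cf
def coldE2 : ℕ := coldE2_c0
def tfT2_c0 : ℕ := 0xdf6d73d32c70b6cbeeaeaa689e68a48257637de85c6d865a5d45564124533ce34c2482ca1c6143102040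
def tfT2 : ℕ := tfT2_c0

end

end Cfsg.Agent.Lib.Helper28.Fi23Ord.C56
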