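import Cfsg.Agent.Lib.Helper28.TCCheck
import Cfsg.Agent.Lib.Helper28.Fi23Ord.Sub

set_option autoImplicit false
set_option linter.unusedVariables false

namespace Cfsg.Agent.Lib.Helper28.Fi23Ord.C56

open Cfsg.Agent.Lib.Helper28.Fi23Sub.Q7 (Gen)
open Cfsg.Agent.Lib.Helper28.TC

noncomputable section

def hotE3_c0 : ℕ := 0xc3717fdee9adcf6b4e961ceb3954b1a5e144be7564ce99cdd26ae3934cad88d1099e3753f257ac8ee8dcf1385f6d40e08596e315b653cc47558baa1950b0ab6926b231542a87e4cf091b4e35206030d8894cb2f9e52348450e8919902c1c4a307c50b0615101810101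
def hotE3 : ℕ := hotE3_c0
def coldE3_c0 : ℕ := 0xd80dbf4036700034800000c40daef036bbc08aee036bb4091ec02470002b8000a20000026020f0002580000090083e3022b0000021022b80091df036b74091c0007a680d9da036b0001b80006a580dad6036f0001694036f4c0dac00000440dbcd036740091cf036f2c0d9c00036280d9c0002e0000000002a000000000001c0dac5036b14083c4036b1008ac3024700002800000000dbc001d3
def coldE3 : ℕ := coldE3_c0
def tfT3_c0 : ℕ := 0xdf6d35cf2c70beeae8b6a96c9e6a648e285e7e06da75c5985d95544d244d3cb40a38c2481c6144083040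
def tfT3 : ℕ := tfT3_c0

end

end Cfsg.Agent.Lib.Helper28.Fi23Ord.C56
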