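import Cfsg.Agent.Lib.Helper28.TCCheck
import Cfsg.Agent.Lib.Helper28.Fi23Ord.Sub

set_option autoImplicit false
set_option linter.unusedVariables false

namespace Cfsg.Agent.Lib.Helper28.Fi23Ord.C56

open Cfsg.Agent.Lib.Helper28.Fi23Sub.Q7 (Gen)
open Cfsg.Agent.Lib.Helper28.TC

noncomputable section

def hotE4_c0 : ℕ := 0xc3f17bdaf5bdc35b56962ceb5954f1a66145be7d74dad97d72eb23f54627895117a60723f65814cf085d113be36b3ad27d98f35605f30b76d60d2a595eb8975128b22114b2e7f4ce87a1d5339a7348b8719902798482c8650ec91a102d1c4c308050c880f081c18141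
def hotE4 : ℕ := hotE4_c0
def coldE4_c0 : ℕ := 0xd40e2c000d60000033024bc40e1ef0387bc08bee0387b4092ec024bac099e802670002aa8021394099c0009a90084e5022f00023a1022f88092c0008274092dc03870001c9a0387640e1c000000001793038b58099d0038b4c0e1c0004e380e2c00042000000c038b0000e8000000000c8000002c08bc0000024092c8024b1c0e1c5038714084c403871008bc3024b08099c00006000000001d7
def coldE4 : ℕ := coldE4_c0
def tfT4_c0 : ℕ := 0xdf5db4cf2c70beeb6caaba669e88e496086271e75f5da6586d355059239431134f2ca2481c61440c1080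
def tfT4 : ℕ := tfT4_c0

end

end Cfsg.Agent.Lib.Helper28.Fi23Ord.C56
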