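import Cfsg.Agent.Lib.Helper28.TCCheck
import Cfsg.Agent.Lib.Helper28.Fi23Ord.Sub

set_option autoImplicit false
set_option linter.unusedVariables false

namespace Cfsg.Agent.Lib.Helper28.Fi23Ord.C56

open Cfsg.Agent.Lib.Helper28.Fi23Sub.Q7 (Gen)
open Cfsg.Agent.Lib.Helper28.TC

noncomputable section

def hotE5_c0 : ℕ := 0xc16f81e2f3b5cb5b5e963ceb795531a6e146be8174e2d98d929a243546a994570c960b342e77c44f18def238de6dc0d471c50b01a69beb25d7eea9155130b16d1e928d943287b411cb1c913d26653cbc715cd28984a2c8850f091a902e1c4e308450d88140c10081c2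
def hotE5 : ℕ := hotE5_c0
def coldE5_c0 : ℕ := 0x36800000d009bf30253c40a9ef02a7bc08dee02a7b4094ec0253ac09be8026fa0086c0009e9409be5023798086c0009288094e30237000219f02a780094c00076700a2c0006e700a9c00066680a9c0005a000000000524c0a9c000000001180000040094c0003e000000d026f000000b026f2c08dca026f24094c802531c0a9c502a714086c402a71008dc302530809bc1028b00000800000
def coldE5 : ℕ := coldE5_c0
def tfT5_c0 : ℕ := 0xdb7d74cf2c70beeb6cae7a68aa49668628dd7db8197967145da4584cf55048e34c2ca2481c61440c2001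
def tfT5 : ℕ := tfT5_c0

end

end Cfsg.Agent.Lib.Helper28.Fi23Ord.C56
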