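import Cfsg.Agent.Lib.Helper28.TCCheck
import Cfsg.Agent.Lib.Helper28.Fi23Ord.Sub

set_option autoImplicit false
set_option linter.unusedVariables false

namespace Cfsg.Agent.Lib.Helper28.Fi23Ord.C56

open Cfsg.Agent.Lib.Helper28.Fi23Sub.Q7 (Gen)
open Cfsg.Agent.Lib.Helper28.TC

noncomputable section

def hotE6_c0 : ℕ := 0xc47180def1b5c75b2e55dc2c9a53efae674ec67f74ded985927ae415466989d10a9e0933fa57b48eb81d31375d7546ce6d8ed37215caecd7d8cf2a994ea8b8712ab23554e30804cf291c5135a0643cba7158d2818492c7c40dc61e9429146c48a070d08130c1a10181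
def hotE6 : ℕ := hotE6_c0
def coldE6_c0 : ℕ := 0xd80e9f50287d009af3024f000318000be000000000ba00000000000ac09ae8026ba0085e602179409ae5023390085e3023388093e1023380093c0007e74093c000720000000006a0001980000000016800000000001403a700013800000440e9d00287000000f03a7380a1cd026b300a1cb026b2c08cca026b24093c8024f0000780001600000000012000000000000809ac10287000e9c001db
def coldE6 : ℕ := coldE6_c0
def tfT6_c0 : ℕ := 0xdf6d74c6fceecb0b6caeaa689e69648df85c89a66059e7584db5545d24503ce34c2ca1c52442060c2040
def tfT6 : ℕ := tfT6_c0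

end

end Cfsg.Agent.Lib.Helper28.Fi23Ord.C56
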